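import Cfsg.Agent.Lib.Comp.Co3y.T07

set_option maxRecDepth 100000
set_option Elab.async false

namespace Cfsg.Lib.Comp.Co3y

universe u

theorem T0_fin : finB 12288 T0_n [1,2,3,4,5,6,7,8,9] 11178 (runH 12288 T0_n (tbk 14 4 prs14 T0_n 1024) iv T0_R [] ([1,2,3,4,5,6,7,8].map fun x => [x]) 0 []
  [128,132,136,140,144,148,152,156,164,168,0,4,8,12,16,20,24,28,32,36,40,44,48,52,56,60,64,72,76,80,84,88,92,96,100,104,108,112,116,120,124,128,132,136,144,148,156,56,72]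
  T0_K6) = true := by decide +kernel

theorem T0_idx : Idx.{u} iv (T0_R ++ []) ([1,2,3,4,5,6,7,8].map fun x => [x]) [1,2,3,4,5,6,7,8,9] 11178 :=
  Reach.idx T0_n_ok (reach_runH T0_n_ok (tbk_eq tr14 (by norm_num) (by norm_num) (by norm_num) T0_n_ok) T0_n_rel T0_K6_reach _ _) T0_fin (by norm_num)

end Cfsg.Lib.Comp.Co3y
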