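import Cfsg.Agent.Lib.Comp.Co3y.Perm
import Cfsg.Agent.Lib.Comp.PermGrp
import Cfsg.Agent.Lib.Comp.Bridge2
import Cfsg.Agent.Lib.Comp.Co3y.T08
import Cfsg.Agent.Lib.Comp.Co3y.T1
import Cfsg.Agent.Lib.Comp.Co3y.T2
import Cfsg.Agent.Lib.Comp.Co3y.T3
import Cfsg.Agent.Lib.Comp.Co3y.T4
import Cfsg.Agent.Lib.Comp.Co3y.T5
import Cfsg.Agent.Lib.Comp.Out
import Cfsg.Agent.Lib.Leech.PermCo3

set_option maxRecDepth 100000
set_option Elab.async false

namespace Cfsg.Lib.Comp.Co3y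

universe u

theorem T5_ord : Ord.{u} iv T5_R [1,2,3,4] 48 :=
  (T5_idx.ord_base).of_cons (cons_of_subset (by decide +kernel))

theorem T4_ord : Ord.{u} iv T4_R [1,2,3,4,5] 960 :=
  (T4_idx.ord_step T5_ord).of_cons (cons_of_subset (by decide +kernel))

theorem T3_ord : Ord.{u} iv T3_R [1,2,3,4,5,6] 20160 :=
  (T3_idx.ord_step T4_ord).of_cons (cons_of_subset (by decide +kernel))

theorem T2_ord : Ord.{u} iv T2_R [1,2,3,4,5,6,7] 443520 :=
  (T2_idx.ord_step T3_ord).of_cons (cons_of_subset (by decide +kernel))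

theorem T1_ord : Ord.{u} iv T1_R [1,2,3,4,5,6,7,8] 44352000 :=
  (T1_idx.ord_step T2_ord).of_cons (cons_of_subset (by decide +kernel))

theorem T0_ord : Ord.{u} iv T0_R [1,2,3,4,5,6,7,8,9] 495766656000 :=
  (T0_idx.ord_step T1_ord).of_cons (cons_of_subset (by decide +kernel))

theorem ord : Ord.{u} iv R L 495766656000 := T0_ord.of_cons (cons_of_subset (by decide +kernel))

theorem card : Nat.card (cl (gp nets) L) = 495766656000 := card_of_ord ord nets_iv nets_rel lb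

noncomputable def lpi : Net :=
 (Net.cons 20 (nat_lit 0xff000)
 (Net.cons 10 (nat_lit 0x3000000000000003e0)
 (Net.cons 1 (nat_lit 0x8000000000842100400)
 (Net.cons 1 (nat_lit 0x50800000001084240000)
 (Net.cons 1 (nat_lit 0x21400000002108420000)
 (Net.cons 1 (nat_lit 0x12800000004210810000)
 (Net.cons 1 (nat_lit 0x9000000000000008000)
 (Net.cons 5 (nat_lit 0x60000000003c0f00400)
 (Net.cons 10 (nat_lit 0x30000000003f0003e0)
 (Net.cons 20 (nat_lit 0xfffc0)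
 Net.nil))))))))))

theorem lpi_ok : lpi.ok 320 := ok_of_netOK (by decide +kernel)

theorem l_m1 : gp nets 1 ∈ (cl (gp Leech.PCo3.nets) Leech.PCo3.L).map (MulAut.conj lpi.perm).toMonoidHom :=
  mem_conj_of_eqB (k := 9) (w := [80,82,76,79,76,72,75,68,77,80,66,66,77,2,69,65]) Leech.PCo3.nets_ok (by norm_num) lpi_ok (nets_ok 1)
    (fun _ h => cl_eq_of_slpB Leech.PCo3.nets_ok (by norm_num) Leech.PCo3.slp_ok ▸ mem_cl h) (by decide +kernel)

theorem l_m2 : gp nets 2 ∈ (cl (gp Leech.PCo3.nets) Leech.PCo3.L).map (MulAut.conj lpi.perm).toMonoidHom :=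
  mem_conj_of_eqB (k := 9) (w := [76,76,79,73,73,77,70,76,79,65,80,2,64,4]) Leech.PCo3.nets_ok (by norm_num) lpi_ok (nets_ok 2)
    (fun _ h => cl_eq_of_slpB Leech.PCo3.nets_ok (by norm_num) Leech.PCo3.slp_ok ▸ mem_cl h) (by decide +kernel)

theorem l_m3 : gp nets 3 ∈ (cl (gp Leech.PCo3.nets) Leech.PCo3.L).map (MulAut.conj lpi.perm).toMonoidHom :=
  mem_conj_of_eqB (k := 9) (w := [82,77,80,77,75,70,67,76,69,1,64,66]) Leech.PCo3.nets_ok (by norm_num) lpi_ok (nets_ok 3)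
    (fun _ h => cl_eq_of_slpB Leech.PCo3.nets_ok (by norm_num) Leech.PCo3.slp_ok ▸ mem_cl h) (by decide +kernel)

theorem l_m4 : gp nets 4 ∈ (cl (gp Leech.PCo3.nets) Leech.PCo3.L).map (MulAut.conj lpi.perm).toMonoidHom :=
  mem_conj_of_eqB (k := 9) (w := [76,76,80,73,76,72,70,74,74,67,80,1,4]) Leech.PCo3.nets_ok (by norm_num) lpi_ok (nets_ok 4)
    (fun _ h => cl_eq_of_slpB Leech.PCo3.nets_ok (by norm_num) Leech.PCo3.slp_ok ▸ mem_cl h) (by decide +kernel)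

theorem l_m5 : gp nets 5 ∈ (cl (gp Leech.PCo3.nets) Leech.PCo3.L).map (MulAut.conj lpi.perm).toMonoidHom :=
  mem_conj_of_eqB (k := 9) (w := [81,76,78,76,74,73,76,68,74,79,67,80,1,4]) Leech.PCo3.nets_ok (by norm_num) lpi_ok (nets_ok 5)
    (fun _ h => cl_eq_of_slpB Leech.PCo3.nets_ok (by norm_num) Leech.PCo3.slp_ok ▸ mem_cl h) (by decide +kernel)

theorem l_m6 : gp nets 6 ∈ (cl (gp Leech.PCo3.nets) Leech.PCo3.L).map (MulAut.conj lpi.perm).toMonoidHom :=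
  mem_conj_of_eqB (k := 9) (w := [81,77,77,77,74,77,69,64,64,71,2,73]) Leech.PCo3.nets_ok (by norm_num) lpi_ok (nets_ok 6)
    (fun _ h => cl_eq_of_slpB Leech.PCo3.nets_ok (by norm_num) Leech.PCo3.slp_ok ▸ mem_cl h) (by decide +kernel)

theorem l_m7 : gp nets 7 ∈ (cl (gp Leech.PCo3.nets) Leech.PCo3.L).map (MulAut.conj lpi.perm).toMonoidHom :=
  mem_conj_of_eqB (k := 9) (w := [80,82,76,78,80,74,68,70,68,64,66,75,2,70,1]) Leech.PCo3.nets_ok (by norm_num) lpi_ok (nets_ok 7)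
    (fun _ h => cl_eq_of_slpB Leech.PCo3.nets_ok (by norm_num) Leech.PCo3.slp_ok ▸ mem_cl h) (by decide +kernel)

theorem l_m8 : gp nets 8 ∈ (cl (gp Leech.PCo3.nets) Leech.PCo3.L).map (MulAut.conj lpi.perm).toMonoidHom :=
  mem_conj_of_eqB (k := 9) (w := [81,78,76,73,75,76,69,70,72,67,76,1,4]) Leech.PCo3.nets_ok (by norm_num) lpi_ok (nets_ok 8)
    (fun _ h => cl_eq_of_slpB Leech.PCo3.nets_ok (by norm_num) Leech.PCo3.slp_ok ▸ mem_cl h) (by decide +kernel)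

theorem l_m9 : gp nets 9 ∈ (cl (gp Leech.PCo3.nets) Leech.PCo3.L).map (MulAut.conj lpi.perm).toMonoidHom :=
  mem_conj_of_eqB (k := 9) (w := [81,82,76,78,76,72,76,82,71,78,64,66,1,80,72]) Leech.PCo3.nets_ok (by norm_num) lpi_ok (nets_ok 9)
    (fun _ h => cl_eq_of_slpB Leech.PCo3.nets_ok (by norm_num) Leech.PCo3.slp_ok ▸ mem_cl h) (by decide +kernel)

theorem perm : Nonempty (Spor.Co3 ≃* cl (gp nets) L) := by
  obtain ⟨e⟩ := Leech.PCo3.perm
  have := Leech.PCo3.nets_ok.finite Leech.PCo3.L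
  obtain ⟨φ, h1, h2⟩ := relabel e lpi.perm (G' := cl (gp nets) L)
    (cl_le.2 (by unfold L; simp only [List.forall_mem_cons]; exact ⟨l_m1, l_m2, l_m3, l_m4, l_m5, l_m6, l_m7, l_m8, l_m9, by simp⟩)) (Leech.PCo3.card.trans_le lb)
  exact ⟨(MonoidHom.ofInjective h1).trans (MulEquiv.subgroupCongr h2)⟩

end Cfsg.Lib.Comp.Co3y
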