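import Cfsg.Agent.Lib.Comp.Co3y.Base

set_option maxRecDepth 100000
set_option Elab.async false

namespace Cfsg.Lib.Comp.Co3y

universe u

noncomputable def MuH1_0_R : List (List ℕ × ℕ) := [([3],1),
 ([4],1),
 ([3,4],1),
 ([7],1),
 ([3,7],2),
 ([4,7],2),
 ([8],1),
 ([4,8],1),
 ([7,8],1),
 ([3,8],2),
 ([9],1),
 ([3,9],1),
 ([4,9],1),
 ([7,9],1),
 ([8,9],2)]

noncomputable def MuH1_0_n_3 : Net :=
 (Net.cons 3 (nat_lit 0x4)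
 (Net.cons 1 (nat_lit 0x8)
 (Net.cons 1 (nat_lit 0x10)
 (Net.cons 1 (nat_lit 0x8)
 (Net.cons 3 (nat_lit 0x4)
 Net.nil)))))

noncomputable def MuH1_0_n_4 : Net :=
 (Net.cons 1 (nat_lit 0x10)
 Net.nil)

noncomputable def MuH1_0_n_7 : Net :=
 (Net.cons 1 (nat_lit 0x8)
 Net.nil)

noncomputable def MuH1_0_n_8 : Net :=
 (Net.cons 1 (nat_lit 0x2)
 Net.nil)

noncomputable def MuH1_0_n_9 : Net :=
 (Net.cons 1 (nat_lit 0x1)
 Net.nil)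

noncomputable def MuH1_0_n : List Net := [Net.nil,
 Net.nil,
 Net.nil,
 MuH1_0_n_3,
 MuH1_0_n_4,
 Net.nil,
 Net.nil,
 MuH1_0_n_7,
 MuH1_0_n_8,
 MuH1_0_n_9]

theorem MuH1_0_n_ok : NetsOK 6 MuH1_0_n := netsOK_of (by decide +kernel)

theorem MuH1_0_n_rel : Rels (gp MuH1_0_n) MuH1_0_R := rels_of_relsB (k := 3) MuH1_0_n_ok (by norm_num) (by decide +kernel)

theorem MuH1_0_fin : finB 6 MuH1_0_n [3,4,7,8,9] 6 (runH 6 MuH1_0_n (fun x p => ptInv (nth Net.nil MuH1_0_n x) p) iv MuH1_0_R [] ([3,4,7,8].map fun x => [x]) 0 []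
  [1,5,9,13,0,4,12,24,40,44,48,52,56,28,32,36,44,52,8,16,20,32,48,8,28]
  (defsH 6 MuH1_0_n (ones 60) [9,8,3,7,4] (Nat.shiftLeft 1 0) 0)) = true := by decide +kernel

theorem MuH1_0_idx : Idx.{u} iv (MuH1_0_R ++ []) ([3,4,7,8].map fun x => [x]) [3,4,7,8,9] 6 :=
  Reach.idx MuH1_0_n_ok (reach_runH MuH1_0_n_ok (fun x p _ => ptInv_gp MuH1_0_n_ok x p) MuH1_0_n_rel (reach_defsH MuH1_0_n_ok _ _ _ _ _ _) _ _) MuH1_0_fin (by norm_num)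

end Cfsg.Lib.Comp.Co3y
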