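import Cfsg.Agent.Lib.Comp.Co3y.Base

set_option maxRecDepth 100000
set_option Elab.async false

namespace Cfsg.Lib.Comp.Co3y

universe u

noncomputable def MuH1_4_R : List (List ℕ × ℕ) := [([3],1)]

noncomputable def MuH1_4_n_3 : Net :=
 (Net.cons 1 (nat_lit 0x1)
 Net.nil)

noncomputable def MuH1_4_n : List Net := [Net.nil,
 Net.nil,
 Net.nil,
 MuH1_4_n_3]

theorem MuH1_4_n_ok : NetsOK 2 MuH1_4_n := netsOK_of (by decide +kernel)

theorem MuH1_4_n_rel : Rels (gp MuH1_4_n) MuH1_4_R := rels_of_relsB (k := 1) MuH1_4_n_ok (by norm_num) (by decide +kernel)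

theorem MuH1_4_fin : finB 2 MuH1_4_n [3] 2 (runH 2 MuH1_4_n (fun x p => ptInv (nth Net.nil MuH1_4_n x) p) iv MuH1_4_R [] ([].map fun x => [x]) 0 []
  [0]
  (defsH 2 MuH1_4_n (ones 20) [3] (Nat.shiftLeft 1 0) 0)) = true := by decide +kernel

theorem MuH1_4_idx : Idx.{u} iv (MuH1_4_R ++ []) ([].map fun x => [x]) [3] 2 :=
  Reach.idx MuH1_4_n_ok (reach_runH MuH1_4_n_ok (fun x p _ => ptInv_gp MuH1_4_n_ok x p) MuH1_4_n_rel (reach_defsH MuH1_4_n_ok _ _ _ _ _ _) _ _) MuH1_4_fin (by norm_num)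

end Cfsg.Lib.Comp.Co3y
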