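import Cfsg.Agent.Lib.Comp.Co3y.Base

set_option maxRecDepth 100000
set_option Elab.async false

namespace Cfsg.Lib.Comp.Co3y

universe u

noncomputable def MuH2_2_R : List (List ℕ × ℕ) := [([3],1),
 ([4],1),
 ([1],2),
 ([3,4],1),
 ([1,3],2),
 ([1,4],2),
 ([1,4,2,3],1),
 ([5],1),
 ([1,5],1),
 ([4,5],2),
 ([3,5],4),
 ([1,4,3,5],2),
 ([1,2],0)]

noncomputable def MuH2_2_n_1 : Net :=
 (Net.cons 8 (nat_lit 0x88)
 (Net.cons 4 (nat_lit 0x808)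
 (Net.cons 2 (nat_lit 0x22)
 (Net.cons 1 (nat_lit 0x1544)
 (Net.cons 2 (nat_lit 0x3030)
 (Net.cons 4 (nat_lit 0x300)
 (Net.cons 8 (nat_lit 0x2)
 Net.nil)))))))

noncomputable def MuH2_2_n_3 : Net :=
 (Net.cons 8 (nat_lit 0x40)
 (Net.cons 2 (nat_lit 0x20)
 (Net.cons 1 (nat_lit 0x15)
 (Net.cons 2 (nat_lit 0x2020)
 (Net.cons 4 (nat_lit 0x500)
 (Net.cons 8 (nat_lit 0x40)
 Net.nil))))))

noncomputable def MuH2_2_n_4 : Net :=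
 (Net.cons 8 (nat_lit 0x5a)
 (Net.cons 4 (nat_lit 0x4)
 (Net.cons 2 (nat_lit 0x20)
 (Net.cons 1 (nat_lit 0x14)
 (Net.cons 2 (nat_lit 0x2020)
 (Net.cons 4 (nat_lit 0x506)
 (Net.cons 8 (nat_lit 0x5a)
 Net.nil)))))))

noncomputable def MuH2_2_n_5 : Net :=
 (Net.cons 8 (nat_lit 0x6c)
 (Net.cons 4 (nat_lit 0x406)
 (Net.cons 2 (nat_lit 0x2)
 (Net.cons 1 (nat_lit 0x5414)
 (Net.cons 2 (nat_lit 0x3002)
 (Net.cons 4 (nat_lit 0x40e)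
 (Net.cons 8 (nat_lit 0x6c)
 Net.nil)))))))

noncomputable def MuH2_2_n : List Net := [Net.nil,
 MuH2_2_n_1,
 Net.rev MuH2_2_n_1,
 MuH2_2_n_3,
 MuH2_2_n_4,
 MuH2_2_n_5]

theorem MuH2_2_n_ok : NetsOK 16 MuH2_2_n := netsOK_of (by decide +kernel)

theorem MuH2_2_n_rel : Rels (gp MuH2_2_n) MuH2_2_R := rels_of_relsB (k := 4) MuH2_2_n_ok (by norm_num) (by decide +kernel)

theorem MuH2_2_fin : finB 16 MuH2_2_n [1,2,3,4,5] 16 (runH 16 MuH2_2_n (fun x p => ptInv (nth Net.nil MuH2_2_n x) p) iv MuH2_2_R [] ([1,2,4,5].map fun x => [x]) 0 []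
  [1,5,9,13,0,4,12,28,36,40,48,8,16,24,32,44,48,0,4,12,28,36,40,44,48,12,16,20,24,32,36,44,48,4,8,16,24,48]
  (defsH 16 MuH2_2_n (ones 160) [3,5,1,2,3,4,5,1,2] (Nat.shiftLeft 1 0) 0)) = true := by decide +kernel

theorem MuH2_2_idx : Idx.{u} iv (MuH2_2_R ++ []) ([1,2,4,5].map fun x => [x]) [1,2,3,4,5] 16 :=
  Reach.idx MuH2_2_n_ok (reach_runH MuH2_2_n_ok (fun x p _ => ptInv_gp MuH2_2_n_ok x p) MuH2_2_n_rel (reach_defsH MuH2_2_n_ok _ _ _ _ _ _) _ _) MuH2_2_fin (by norm_num)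

end Cfsg.Lib.Comp.Co3y
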