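import Cfsg.Agent.Lib.Comp.Co3y.MuH0_0
import Cfsg.Agent.Lib.Comp.Co3y.MuH0_1
import Cfsg.Agent.Lib.Comp.Co3y.MuH0_2
import Cfsg.Agent.Lib.Comp.Co3y.MuH1_0
import Cfsg.Agent.Lib.Comp.Co3y.MuH1_1
import Cfsg.Agent.Lib.Comp.Co3y.MuH1_2
import Cfsg.Agent.Lib.Comp.Co3y.MuH1_3
import Cfsg.Agent.Lib.Comp.Co3y.MuH1_4
import Cfsg.Agent.Lib.Comp.Co3y.MuH2_0
import Cfsg.Agent.Lib.Comp.Co3y.MuH2_1
import Cfsg.Agent.Lib.Comp.Co3y.MuH2_2
import Cfsg.Agent.Lib.Comp.Co3y.MuH2_3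
import Cfsg.Agent.Lib.Comp.Co3y.MuH2_4
import Cfsg.Agent.Lib.Comp.Co3y.MuH2_5
import Cfsg.Agent.Lib.Comp.Co3y.Mu0
import Cfsg.Agent.Lib.Comp.Co3y.Main
import Cfsg.Agent.Lib.Comp.Cover

set_option maxRecDepth 100000
set_option Elab.async false

namespace Cfsg.Lib.Comp.Co3y

universe u

theorem MuH0_2_ord : Ord.{u} iv MuH0_2_R [1,2] 3 :=
  (MuH0_2_idx.ord_base).of_cons (cons_of_subset (by decide +kernel))

theorem MuH0_1_ord : Ord.{u} iv MuH0_1_R [1,2,6] 12 :=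
  (MuH0_1_idx.ord_step MuH0_2_ord).of_cons (cons_of_subset (by decide +kernel))

theorem MuH0_0_ord : Ord.{u} iv MuH0_0_R [1,2,5,6] 60 :=
  (MuH0_0_idx.ord_step MuH0_1_ord).of_cons (cons_of_subset (by decide +kernel))

noncomputable def MuH0_lb_n_1 : Net :=
 (Net.cons 1 (nat_lit 0x8)
 (Net.cons 1 (nat_lit 0x4)
 Net.nil))

noncomputable def MuH0_lb_n_5 : Net :=
 (Net.cons 1 (nat_lit 0x1)
 (Net.cons 1 (nat_lit 0x8)
 Net.nil))

noncomputable def MuH0_lb_n_6 : Net :=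
 (Net.cons 1 (nat_lit 0xa)
 Net.nil)

noncomputable def MuH0_lb_n : List Net := [Net.nil,
 MuH0_lb_n_1,
 Net.rev MuH0_lb_n_1,
 Net.nil,
 Net.nil,
 MuH0_lb_n_5,
 MuH0_lb_n_6]

theorem MuH0_lb_n_ok : NetsOK 5 MuH0_lb_n := netsOK_of (by decide +kernel)

theorem MuH0_lb : 60 ≤ Nat.card (cl (gp nets) [1,2,5,6]) :=
  lb_of_itwB (k := 3) (n := 5) nets_ok MuH0_lb_n_ok (by norm_num) (by norm_num) (tbA_pt nets_ok) (tbA_pt MuH0_lb_n_ok) (φ := look2 (nat_lit 0x24000cb000650005c00004) 20 64) (by decide +kernel) (by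
    rw [← cl_eq_of_slpB (k := 3) (D := []) MuH0_lb_n_ok (by norm_num) (by decide +kernel)]
    exact lb_of_chainB MuH0_lb_n_ok (C := [([1,2,6],[5,6,1,1],0,0,5),
 ([1,2],[6,1,1],1,1,4),
 ([],[1,1],2,2,3)]) (by decide +kernel))

theorem MuH1_4_ord : Ord.{u} iv MuH1_4_R [3] 2 :=
  (MuH1_4_idx.ord_base).of_cons (cons_of_subset (by decide +kernel))

theorem MuH1_3_ord : Ord.{u} iv MuH1_3_R [3,7] 6 :=
  (MuH1_3_idx.ord_step MuH1_4_ord).of_cons (cons_of_subset (by decide +kernel))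

theorem MuH1_2_ord : Ord.{u} iv MuH1_2_R [3,4,7] 24 :=
  (MuH1_2_idx.ord_step MuH1_3_ord).of_cons (cons_of_subset (by decide +kernel))

theorem MuH1_1_ord : Ord.{u} iv MuH1_1_R [3,4,7,8] 120 :=
  (MuH1_1_idx.ord_step MuH1_2_ord).of_cons (cons_of_subset (by decide +kernel))

theorem MuH1_0_ord : Ord.{u} iv MuH1_0_R [3,4,7,8,9] 720 :=
  (MuH1_0_idx.ord_step MuH1_1_ord).of_cons (cons_of_subset (by decide +kernel))

noncomputable def MuH1_lb_n_3 : Net :=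
 (Net.cons 5 (nat_lit 0xa)
 (Net.cons 1 (nat_lit 0xa4)
 (Net.cons 1 (nat_lit 0x4a)
 (Net.cons 1 (nat_lit 0xa4)
 (Net.cons 5 (nat_lit 0xa)
 Net.nil)))))

noncomputable def MuH1_lb_n_4 : Net :=
 (Net.cons 5 (nat_lit 0x10)
 (Net.cons 1 (nat_lit 0x25)
 (Net.cons 1 (nat_lit 0x140)
 (Net.cons 1 (nat_lit 0x80)
 (Net.cons 1 (nat_lit 0x140)
 (Net.cons 1 (nat_lit 0x20)
 (Net.cons 5 (nat_lit 0x10)
 Net.nil)))))))

noncomputable def MuH1_lb_n_7 : Net :=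
 (Net.cons 5 (nat_lit 0x8)
 (Net.cons 1 (nat_lit 0x80)
 (Net.cons 5 (nat_lit 0x1a)
 Net.nil)))

noncomputable def MuH1_lb_n_8 : Net :=
 (Net.cons 1 (nat_lit 0x42)
 (Net.cons 1 (nat_lit 0x5)
 (Net.cons 1 (nat_lit 0x2)
 Net.nil)))

noncomputable def MuH1_lb_n_9 : Net :=
 (Net.cons 5 (nat_lit 0x1c)
 (Net.cons 1 (nat_lit 0x24)
 (Net.cons 1 (nat_lit 0x148)
 (Net.cons 1 (nat_lit 0x24)
 (Net.cons 5 (nat_lit 0x1c)
 Net.nil)))))

noncomputable def MuH1_lb_n_64 : Net :=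
 (Net.cons 1 (nat_lit 0x84)
 (Net.cons 1 (nat_lit 0x140)
 (Net.cons 1 (nat_lit 0x80)
 (Net.cons 1 (nat_lit 0x140)
 Net.nil))))

noncomputable def MuH1_lb_n_65 : Net :=
 (Net.cons 5 (nat_lit 0x18)
 (Net.cons 1 (nat_lit 0x20)
 (Net.cons 1 (nat_lit 0x148)
 (Net.cons 1 (nat_lit 0xa0)
 (Net.cons 1 (nat_lit 0x140)
 (Net.cons 1 (nat_lit 0x20)
 (Net.cons 5 (nat_lit 0x18)
 Net.nil)))))))

noncomputable def MuH1_lb_n : List Net := (apd [Net.nil,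
 Net.nil,
 Net.nil,
 MuH1_lb_n_3,
 MuH1_lb_n_4,
 Net.nil,
 Net.nil,
 MuH1_lb_n_7,
 MuH1_lb_n_8,
 MuH1_lb_n_9,
 Net.nil,
 Net.nil,
 Net.nil,
 Net.nil,
 Net.nil,
 Net.nil,
 Net.nil,
 Net.nil,
 Net.nil,
 Net.nil,
 Net.nil,
 Net.nil,
 Net.nil,
 Net.nil,
 Net.nil,
 Net.nil,
 Net.nil,
 Net.nil,
 Net.nil,
 Net.nil,
 Net.nil,
 Net.nil,
 Net.nil,
 Net.nil,
 Net.nil,
 Net.nil,
 Net.nil,
 Net.nil,
 Net.nil,
 Net.nil]
 [Net.nil,
 Net.nil,
 Net.nil,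
 Net.nil,
 Net.nil,
 Net.nil,
 Net.nil,
 Net.nil,
 Net.nil,
 Net.nil,
 Net.nil,
 Net.nil,
 Net.nil,
 Net.nil,
 Net.nil,
 Net.nil,
 Net.nil,
 Net.nil,
 Net.nil,
 Net.nil,
 Net.nil,
 Net.nil,
 Net.nil,
 Net.nil,
 MuH1_lb_n_64,
 MuH1_lb_n_65])

theorem MuH1_lb_n_ok : NetsOK 10 MuH1_lb_n := netsOK_of (by decide +kernel)

theorem MuH1_lb : 720 ≤ Nat.card (cl (gp nets) [3,4,7,8,9]) :=
  lb_of_itwB (k := 4) (n := 10) nets_ok MuH1_lb_n_ok (by norm_num) (by norm_num) (tbA_pt nets_ok) (tbA_pt MuH1_lb_n_ok) (φ := look2 (nat_lit 0x1d00065000b3000810003f00045000da00036000e20000d) 20 64) (by decide +kernel) (by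
    rw [← cl_eq_of_slpB (k := 4) (D := [(64,[4,8,9,3,8]),
 (65,[3,9,64])]) MuH1_lb_n_ok (by norm_num) (by decide +kernel)]
    exact lb_of_chainB MuH1_lb_n_ok (C := [([3,7,9,64,65],[4,8,3,7,3],0,0,10),
 ([3,9,64,65],[7,3,64,7,3],1,1,9),
 ([65],[3,9],2,2,4),
 ([],[65],6,6,2)]) (by decide +kernel))

theorem MuH2_5_ord : Ord.{u} iv MuH2_5_R [1,2] 3 :=
  (MuH2_5_idx.ord_base).of_cons (cons_of_subset (by decide +kernel))

theorem MuH2_4_ord : Ord.{u} iv MuH2_4_R [1,2,4] 12 :=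
  (MuH2_4_idx.ord_step MuH2_5_ord).of_cons (cons_of_subset (by decide +kernel))

theorem MuH2_3_ord : Ord.{u} iv MuH2_3_R [1,2,4,5] 60 :=
  (MuH2_3_idx.ord_step MuH2_4_ord).of_cons (cons_of_subset (by decide +kernel))

theorem MuH2_2_ord : Ord.{u} iv MuH2_2_R [1,2,3,4,5] 960 :=
  (MuH2_2_idx.ord_step MuH2_3_ord).of_cons (cons_of_subset (by decide +kernel))

theorem MuH2_1_ord : Ord.{u} iv MuH2_1_R [1,2,3,4,5,6] 20160 :=
  (MuH2_1_idx.ord_step MuH2_2_ord).of_cons (cons_of_subset (by decide +kernel))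

theorem MuH2_0_ord : Ord.{u} iv MuH2_0_R [1,2,3,4,5,6,7] 443520 :=
  (MuH2_0_idx.ord_step MuH2_1_ord).of_cons (cons_of_subset (by decide +kernel))

noncomputable def MuH2_lb_n_1 : Net :=
 (Net.cons 12 (nat_lit 0xda0)
 (Net.cons 6 (nat_lit 0x1a010)
 (Net.cons 3 (nat_lit 0x100000)
 (Net.cons 1 (nat_lit 0x201200)
 (Net.cons 1 (nat_lit 0x492002)
 (Net.cons 1 (nat_lit 0x200000)
 (Net.cons 3 (nat_lit 0x106040)
 (Net.cons 6 (nat_lit 0x28012)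
 (Net.cons 12 (nat_lit 0xd88)
 Net.nil)))))))))

noncomputable def MuH2_lb_n_3 : Net :=
 (Net.cons 12 (nat_lit 0x330)
 (Net.cons 6 (nat_lit 0x10030)
 (Net.cons 3 (nat_lit 0x2)
 (Net.cons 1 (nat_lit 0x208048)
 (Net.cons 1 (nat_lit 0x10482)
 (Net.cons 1 (nat_lit 0x8040)
 (Net.cons 3 (nat_lit 0x2)
 (Net.cons 6 (nat_lit 0x16030)
 (Net.cons 12 (nat_lit 0x330)
 Net.nil)))))))))

noncomputable def MuH2_lb_n_4 : Net :=
 (Net.cons 12 (nat_lit 0x4c0)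
 (Net.cons 6 (nat_lit 0x20020)
 (Net.cons 3 (nat_lit 0x102100)
 (Net.cons 1 (nat_lit 0x48000)
 (Net.cons 1 (nat_lit 0x482080)
 (Net.cons 1 (nat_lit 0x40000)
 (Net.cons 3 (nat_lit 0x102102)
 (Net.cons 6 (nat_lit 0x3402c)
 (Net.cons 12 (nat_lit 0x4c0)
 Net.nil)))))))))

noncomputable def MuH2_lb_n_5 : Net :=
 (Net.cons 12 (nat_lit 0x400)
 (Net.cons 6 (nat_lit 0x32020)
 (Net.cons 3 (nat_lit 0x84000)
 (Net.cons 1 (nat_lit 0x41000)
 (Net.cons 1 (nat_lit 0x490000)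
 (Net.cons 1 (nat_lit 0x40000)
 (Net.cons 3 (nat_lit 0x84044)
 (Net.cons 6 (nat_lit 0x32022)
 (Net.cons 12 (nat_lit 0x408)
 Net.nil)))))))))

noncomputable def MuH2_lb_n_6 : Net :=
 (Net.cons 12 (nat_lit 0xb60)
 (Net.cons 6 (nat_lit 0x8000)
 (Net.cons 3 (nat_lit 0x6084)
 (Net.cons 1 (nat_lit 0x201200)
 (Net.cons 1 (nat_lit 0x492090)
 (Net.cons 1 (nat_lit 0x201000)
 (Net.cons 3 (nat_lit 0x47084)
 (Net.cons 6 (nat_lit 0x27014)
 (Net.cons 12 (nat_lit 0xb60)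
 Net.nil)))))))))

noncomputable def MuH2_lb_n_7 : Net :=
 (Net.cons 12 (nat_lit 0x5f0)
 (Net.cons 6 (nat_lit 0x4014)
 (Net.cons 3 (nat_lit 0x100100)
 (Net.cons 1 (nat_lit 0x8201)
 (Net.cons 1 (nat_lit 0x412480)
 (Net.cons 1 (nat_lit 0x8040)
 (Net.cons 3 (nat_lit 0x1000c0)
 (Net.cons 6 (nat_lit 0x5014)
 (Net.cons 12 (nat_lit 0x5f0)
 Net.nil)))))))))

noncomputable def MuH2_lb_n_64 : Net :=
 (Net.cons 12 (nat_lit 0x9cc)
 (Net.cons 6 (nat_lit 0x1e038)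
 (Net.cons 3 (nat_lit 0x4084)
 (Net.cons 1 (nat_lit 0x41200)
 (Net.cons 1 (nat_lit 0x482010)
 (Net.cons 1 (nat_lit 0x201000)
 (Net.cons 3 (nat_lit 0x5184)
 (Net.cons 6 (nat_lit 0x36020)
 (Net.cons 12 (nat_lit 0x8cc)
 Net.nil)))))))))

noncomputable def MuH2_lb_n_66 : Net :=
 (Net.cons 12 (nat_lit 0x4a0)
 (Net.cons 6 (nat_lit 0x18030)
 (Net.cons 3 (nat_lit 0x2000)
 (Net.cons 1 (nat_lit 0x201208)
 (Net.cons 1 (nat_lit 0x10)
 (Net.cons 1 (nat_lit 0x8)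
 (Net.cons 3 (nat_lit 0x6100)
 (Net.cons 6 (nat_lit 0x1a030)
 (Net.cons 12 (nat_lit 0x4e0)
 Net.nil)))))))))

noncomputable def MuH2_lb_n_67 : Net :=
 (Net.cons 12 (nat_lit 0xf80)
 (Net.cons 3 (nat_lit 0x104180)
 (Net.cons 1 (nat_lit 0x49008)
 (Net.cons 1 (nat_lit 0x412410)
 (Net.cons 1 (nat_lit 0x201200)
 (Net.cons 3 (nat_lit 0x1180)
 (Net.cons 6 (nat_lit 0x2a000)
 (Net.cons 12 (nat_lit 0xf80)
 Net.nil))))))))

noncomputable def MuH2_lb_n_69 : Net :=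
 (Net.cons 12 (nat_lit 0xf80)
 (Net.cons 6 (nat_lit 0x2201e)
 (Net.cons 3 (nat_lit 0x4006)
 (Net.cons 1 (nat_lit 0x240200)
 (Net.cons 1 (nat_lit 0x2010)
 (Net.cons 1 (nat_lit 0x8)
 (Net.cons 3 (nat_lit 0x187046)
 (Net.cons 6 (nat_lit 0x2f01e)
 (Net.cons 12 (nat_lit 0xf80)
 Net.nil)))))))))

noncomputable def MuH2_lb_n_71 : Net :=
 (Net.cons 12 (nat_lit 0xc00)
 (Net.cons 6 (nat_lit 0x30030)
 (Net.cons 3 (nat_lit 0x180)
 (Net.cons 1 (nat_lit 0x9200)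
 (Net.cons 1 (nat_lit 0x492480)
 (Net.cons 1 (nat_lit 0x240040)
 (Net.cons 3 (nat_lit 0xc5180)
 (Net.cons 6 (nat_lit 0x30030)
 (Net.cons 12 (nat_lit 0xc00)
 Net.nil)))))))))

noncomputable def MuH2_lb_n : List Net := (apd [Net.nil,
 MuH2_lb_n_1,
 Net.rev MuH2_lb_n_1,
 MuH2_lb_n_3,
 MuH2_lb_n_4,
 MuH2_lb_n_5,
 MuH2_lb_n_6,
 MuH2_lb_n_7,
 Net.nil,
 Net.nil,
 Net.nil,
 Net.nil,
 Net.nil,
 Net.nil,
 Net.nil,
 Net.nil,
 Net.nil,
 Net.nil,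
 Net.nil,
 Net.nil,
 Net.nil,
 Net.nil,
 Net.nil,
 Net.nil,
 Net.nil,
 Net.nil,
 Net.nil,
 Net.nil,
 Net.nil,
 Net.nil,
 Net.nil,
 Net.nil,
 Net.nil,
 Net.nil,
 Net.nil,
 Net.nil,
 Net.nil,
 Net.nil,
 Net.nil,
 Net.nil]
 [Net.nil,
 Net.nil,
 Net.nil,
 Net.nil,
 Net.nil,
 Net.nil,
 Net.nil,
 Net.nil,
 Net.nil,
 Net.nil,
 Net.nil,
 Net.nil,
 Net.nil,
 Net.nil,
 Net.nil,
 Net.nil,
 Net.nil,
 Net.nil,
 Net.nil,
 Net.nil,
 Net.nil,
 Net.nil,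
 Net.nil,
 Net.nil,
 MuH2_lb_n_64,
 Net.rev MuH2_lb_n_64,
 MuH2_lb_n_66,
 MuH2_lb_n_67,
 Net.rev MuH2_lb_n_67,
 MuH2_lb_n_69,
 Net.rev MuH2_lb_n_69,
 MuH2_lb_n_71,
 Net.rev MuH2_lb_n_71])

theorem MuH2_lb_n_ok : NetsOK 24 MuH2_lb_n := netsOK_of (by decide +kernel)

theorem MuH2_lb : 443520 ≤ Nat.card (cl (gp nets) [1,2,3,4,5,6,7]) :=
  lb_of_itwB (k := 5) (n := 22) nets_ok MuH2_lb_n_ok (by norm_num) (by norm_num) (tbA_pt nets_ok) (tbA_pt MuH2_lb_n_ok) (φ := look2 (nat_lit 0x1b0003f000eb0001d000360004500096000dc00108000b3000300008f0003d000750005b000da0010c00039000ad000760006700016) 20 64) (by decide +kernel) (by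
    rw [← cl_eq_of_slpB (k := 5) (D := [(64,[3,1,6,4,1]),
 (65,[2,4,6,2,3]),
 (66,[3,1,5,3]),
 (67,[65,66,64,66,64]),
 (68,[65,66,65,66,64]),
 (69,[65,6,66,64,6]),
 (70,[6,65,66,6,64]),
 (71,[68,70]),
 (72,[69,67])]) MuH2_lb_n_ok (by norm_num) (by decide +kernel)]
    exact lb_of_chainB MuH2_lb_n_ok (C := [([1,2,3,4,5,6,64,65,66,67,68,69,70,71,72],[7,1,3,4,1,66,6],0,0,22),
 ([6,64,65,66,67,68,69,70,71,72],[1,3,4,1,66,6],1,1,21),
 ([66,67,68,69,70,71,72],[6,64,66,64,71,66],2,2,20),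
 ([71,72],[66,67,69,66,67],3,3,16),
 ([],[71,71],19,19,3)]) (by decide +kernel))

theorem Mu_mb : MB (cl (gp nets) L) 53130 1 :=
  mb_one (w := 40) (n := 43) (La := L) (ix := nth 0 [0,0,0,0,1,7,12,18,25,33]) (by norm_num) (by norm_num) (nets_iv.sval _) (nets_rel.sval fun r hr x hx => mem_cl (sub_of_allR (by decide +kernel) r hr x hx)) (by decide +kernel)
    (TStep.trans (TStep.trans (TStep.trans (TStep.trans (TStep.trans (TStep.trans (TStep.trans (TStep.trans (TStep.trans (TStep.trans (TStep.trans (TStep.trans (TStep.trans (TStep.trans (TStep.trans (TStep.trans (TStep.trans (TStep.trans (TStep.trans (TStep.trans (TStep.trans (TStep.repar (k' := 35) (by norm_num) (by norm_num) (by decide +kernel) (by decide +kernel) Mu1_b)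
    (TStep.enum0 (by norm_num) (by norm_num) Mu2_0 (Gs := Mu2G) (by decide +kernel)))
    (TStep.repar (k' := 34) (by norm_num) (by norm_num) (by decide +kernel) (by decide +kernel) Mu3_b))
    (TStep.enum0 (by norm_num) (by norm_num) Mu4_0 (Gs := Mu4G) (by decide +kernel)))
    (TStep.repar (k' := 29) (by norm_num) (by norm_num) (by decide +kernel) (by decide +kernel) Mu5_b))
    (TStep.enum0 (by norm_num) (by norm_num) Mu6_0 (Gs := Mu6G) (by decide +kernel)))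
    (TStep.repar (k' := 27) (by norm_num) (by norm_num) (by decide +kernel) (by decide +kernel) Mu7_b))
    (TStep.enum0 (by norm_num) (by norm_num) Mu8_0 (Gs := Mu8G) (by decide +kernel)))
    (TStep.repar (k' := 25) (by norm_num) (by norm_num) (by decide +kernel) (by decide +kernel) Mu9_b))
    (TStep.enum0 (by norm_num) (by norm_num) Mu10_0 (Gs := Mu10G) (by decide +kernel)))
    (TStep.repar (k' := 16) (by norm_num) (by norm_num) (by decide +kernel) (by decide +kernel) Mu11_b))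
    (TStep.enum0 (by norm_num) (by norm_num) Mu12_0 (Gs := Mu12G) (by decide +kernel)))
    (TStep.repar (k' := 12) (by norm_num) (by norm_num) (by decide +kernel) (by decide +kernel) Mu13_b))
    (TStep.repar (k' := 12) (by norm_num) (by norm_num) (by decide +kernel) (by decide +kernel) Mu14_b))
    (TStep.enum (by norm_num) (by norm_num) Mu15_0 (I := [2,7,8,12,14,15,42]) (by decide +kernel) (by decide +kernel) MuH0_0_ord (c := 1) (lb_sval (fun _ hx => mem_cl (sub_of_subB (by decide +kernel) _ hx)) MuH0_lb (by norm_num)) (Gs := Mu15G) (by decide +kernel)))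
    (TStep.repar (k' := 6) (by norm_num) (by norm_num) (by decide +kernel) (by decide +kernel) Mu16_b))
    (TStep.repar (k' := 6) (by norm_num) (by norm_num) (by decide +kernel) (by decide +kernel) Mu17_b))
    (TStep.enum (by norm_num) (by norm_num) Mu18_0 (I := [0,1,3,18,21,22,25,26,28,29,33,34,35,36,41]) (by decide +kernel) (by decide +kernel) MuH1_0_ord (c := 1) (lb_sval (fun _ hx => mem_cl (sub_of_subB (by decide +kernel) _ hx)) MuH1_lb (by norm_num)) (Gs := Mu18G) (by decide +kernel)))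
    (TStep.repar (k' := 4) (by norm_num) (by norm_num) (by decide +kernel) (by decide +kernel) Mu19_b))
    (TStep.repar (k' := 4) (by norm_num) (by norm_num) (by decide +kernel) (by decide +kernel) Mu20_b))
    (TStep.enum (by norm_num) (by norm_num) Mu21_0 (I := [0,1,2,3,4,5,6,7,8,9,10,11,12,13,14,15,16,17,18,19,20,21,22,23,24,42]) (by decide +kernel) (by decide +kernel) MuH2_0_ord (c := 1) (lb_sval (fun _ hx => mem_cl (sub_of_subB (by decide +kernel) _ hx)) MuH2_lb (by norm_num)) (Gs := Mu21G) (by decide +kernel)))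
    (TStep.repar (k' := 0) (by norm_num) (by norm_num) (by decide +kernel) (by decide +kernel) Mu22_b))
    (L := [1,2,3,4,5,6,7,8,9]) (I := [0,1,2,3,4,5,6,7,8,9,10,11,12,13,14,15,16,17,18,19,20,21,22,23,24,25,26,27,28,29,30,31,32,33,34,35,36,37,38,39,40,41,42]) (by decide +kernel) (by decide +kernel) ord card.ge (cl_sval_top _ _)

end Cfsg.Lib.Comp.Co3y
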